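import Cfsg.Agent.TwoF.SpD.Tool
import Cfsg.Agent.KFacts.He.Classes
import Cfsg.Agent.CpAutHe.Cnt
import Cfsg.Agent.S2049
import Cfsg.Agent.S2075

/-!
# TwoF SP-D: the row of the Held group (helper55)
-/

set_option autoImplicit false
set_option maxHeartbeats 400000
set_option maxRecDepth 100000

namespace Cfsg.Agent.TwoF.SpD.He

open Cfsg Subgroup Cfsg.Agent.TwoF.Gen Cfsg.Agent.H859
open Cfsg.Spor (He)
open Cfsg.Spor.He (Gen)
open Cfsg.Agent.SporadicB.HePerm (wd act phi)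
open Cfsg.Agent.FixBN.HeStab (chkB eq_of_chkB)
open Cfsg.Agent.KFacts.He.Lv (wd_append wd_one wd_nil act_eq)
open Cfsg.Agent.KFacts.He.Classes (card_he two_classes_ad)
open Cfsg.Agent.CpAutHe.Cnt (cnt card_filter pw wd_pw)

/-- a group whose non-trivial elements have the same number of fixed points -/
theorem card_dvd_of_fix {G X : Type*} [Group G] [Finite G] [Finite X] (f : G →* Equiv.Perm X) {c : ℕ}
    (h : ∀ g, g ≠ 1 → Nat.card {x // f g x = x} = c) : Nat.card G ∣ Nat.card X + (Nat.card G - 1) * c := by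
  classical
  let _ := MulAction.compHom X f
  have := Fintype.ofFinite G
  have := Fintype.ofFinite X
  have := Fintype.ofFinite (Quotient (MulAction.orbitRel G X))
  have h1 := MulAction.sum_card_fixedBy_eq_card_orbits_mul_card_group G X
  rw [← Finset.add_sum_erase _ _ (Finset.mem_univ 1), Finset.sum_congr rfl (g := fun _ => c) fun g hg => by
    rw [← h g (Finset.ne_of_mem_erase hg), ← Nat.card_eq_fintype_card]
    rfl, Finset.sum_const, Finset.card_erase_of_mem (Finset.mem_univ _), smul_eq_mul, Finset.card_univ,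
    Fintype.card_congr (Equiv.Set.univ X |> (Equiv.setCongr (MulAction.fixedBy_one_eq_univ X G)).trans)] at h1
  simp only [Nat.card_eq_fintype_card]
  exact ⟨_, h1.trans (mul_comm _ _)⟩

theorem finite_He : Finite He := Nat.finite_of_card_ne_zero (by rw [card_he]; norm_num)

theorem cj {g x y : List Gen} (h : chkB (g ++ x) (y ++ g) = true) : IsConj (wd x) (wd y) :=
  isConj_iff.2 ⟨wd g, by rw [mul_inv_eq_iff_eq_mul, ← wd_append, ← wd_append]; exact eq_of_chkB h⟩

theorem pw_one {x : List Gen} {n : ℕ} (h : chkB (pw x n) [] = true) : wd x ^ n = 1 := by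
  rw [← wd_pw, eq_of_chkB h, wd_nil]

theorem ne_one {x : List Gen} (i : Fin 2058) (h : act x i ≠ i) : wd x ≠ 1 := fun e => h (by
  rw [act_eq, e, map_one, Equiv.Perm.one_apply])

theorem rel {r : ℕ} {a b z : List Gen} (i : Fin 2058) (h : (chkB (pw a r) [] && chkB (pw b r) [] && chkB (pw z r) [] &&
    chkB (a ++ z) (z ++ a) && chkB (b ++ z) (z ++ b) && chkB (b ++ a) (a ++ b ++ z)) = true) (h1 : act z i ≠ i) :
    Heis.Rel r (wd a) (wd b) (wd z) := by
  simp only [Bool.and_eq_true] at h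
  obtain ⟨⟨⟨⟨⟨h2, h3⟩, h4⟩, h5⟩, h6⟩, h7⟩ := h
  refine ⟨pw_one h2, pw_one h3, pw_one h4, ?_, ?_, ?_, ne_one i h1⟩ <;> simp only [← wd_append]
  exacts [eq_of_chkB h5, eq_of_chkB h6, eq_of_chkB h7]

/-- the product of two conjugates has order `17` -/
theorem eb17 {p : ℕ} [Fact p.Prime] (hp : 17 ≠ p) (hn : ∀ d < 16, 0 < d → p ^ d % 17 ≠ 1 % 17) (x g : List Gen)
    (h1 : chkB (g ++ x) (g ++ x ++ g.reverse ++ g) = true) (h2 : chkB (pw (x ++ (g ++ x ++ g.reverse)) 17) [] = true)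
    (h3 : act (x ++ (g ++ x ++ g.reverse)) (0 : Fin 2058) ≠ (0 : Fin 2058)) : EB p 1 (wd x) 8 := by
  have : Fact (Nat.Prime 17) := ⟨by norm_num⟩
  have h4 : EB p 1 (wd (x ++ (g ++ x ++ g.reverse))) 16 :=
    eb_ord (by norm_num) hp (orderOf_eq_prime (pw_one h2) (ne_one 0 h3)) hn
  rw [wd_append] at h4
  exact h4.mul (IsConj.refl _) (cj h1) (by norm_num)

/-- generators of `7 ^ (1 + 2)` -/
def A7 : List Gen := [.f, .e, .c, .d, .g, .c, .d, .b, .c, .d, .f, .b, .c, .d, .e, .c, .d, .g, .e, .d, .c, .d, .a, .b, .c,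
  .b, .d, .c, .g, .d, .c, .e, .f]

/-- generators of `7 ^ (1 + 2)` -/
def B7 : List Gen := [.f, .e, .c, .d, .g, .c, .d, .b, .c, .f, .g, .d, .c, .b, .d, .f, .g, .d, .c, .d, .b, .c, .d, .g, .d,
  .f, .c, .d, .e, .b, .d, .c, .g, .d, .c, .e, .f]

/-- the centre of `7 ^ (1 + 2)` -/
def Z7 : List Gen := [.f, .e, .c, .d, .g, .c, .d, .b, .e, .d, .c, .f, .d, .g, .d, .c, .b, .d, .c, .d, .g, .f, .d, .b, .c,
  .d, .g, .f, .b, .a, .d, .c, .d, .e, .g, .d, .c, .e, .d, .c, .b, .f, .d, .f, .g, .d, .c, .b, .d, .f, .g, .d, .c, .d, .b,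
  .c, .d, .g, .d, .f, .c, .d, .e, .c, .d, .f, .b, .c, .d, .e, .c, .d, .g, .e, .d, .c, .d, .a, .b, .c, .b, .d, .c, .g, .d,
  .c, .e, .f]

theorem rel7 : Heis.Rel 7 (wd A7) (wd B7) (wd Z7) := rel 0 (by decide +kernel) (by decide +kernel)

theorem rel3 : Heis.Rel 3 (wd [.f, .g, .c, .d, .f, .g, .c]) (wd [.b, .c, .b, .d, .e, .f, .d, .c, .b, .d, .c, .e, .d, .c,
    .d, .b, .c, .d, .f, .e, .d, .c, .d, .b, .c, .d, .c]) (wd [.e, .d]) := rel 2 (by decide +kernel) (by decide +kernel)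

theorem eb_d : EB 2 1 (wd [.d]) 21 := by
  have h2 : wd [.d] * wd [.d] = 1 := by rw [← pow_two]; exact pw_one (by decide +kernel)
  have h3 : wd [.d] * wd Z7 * (wd [.d])⁻¹ = (wd Z7)⁻¹ := by
    rw [mul_inv_eq_iff_eq_mul, eq_inv_mul_iff_mul_eq, ← wd_append, ← wd_append]
    exact eq_of_chkB (by decide +kernel)
  have h4 := eb_heis (p := 2) (m := 1) (by norm_num) (by norm_num) (by norm_num) rel7 {1, 2, 3, 4, 5, 6} fun j hj => by
    have h5 : (wd [.d])⁻¹ * wd Z7 * wd [.d] = wd Z7 ^ 6 := by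
      refine Eq.trans ?_ (h3.trans (inv_eq_of_mul_eq_one_left (by rw [← pow_succ, rel7.wp])))
      rw [inv_eq_of_mul_eq_one_left h2]
    obtain ⟨l, -, e | e⟩ := (by decide : ∀ j ∈ ({1, 2, 3, 4, 5, 6} : Finset (ZMod 7)), ∃ l < 3,
      j = ((1 * 2 ^ l : ℕ) : ZMod 7) ∨ j = ((6 * 2 ^ l : ℕ) : ZMod 7)) j hj
    · exact ⟨1, 1, l, by group, e⟩
    · exact ⟨_, 6, l, h5, e⟩
  exact h4.inv (k := 4) (by rw [← pow_mul, pow_succ, rel7.wp, one_mul]) h2 h3 (by decide)

theorem eb_a : EB 2 1 (wd [.a]) 11 := by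
  have h1 := eb_d.conj (cj (g := [.d, .c, .d, .c]) (y := [.a] ++ [.c]) (by decide +kernel)).symm
  rw [wd_append] at h1
  exact h1.mul (IsConj.refl _)
    (cj (g := [.d, .c, .d, .f, .c, .d, .g, .b, .c, .d, .f, .e, .d, .c, .b]) (by decide +kernel)) (by norm_num)

theorem classes {t : He} (ht : orderOf t = 2) : IsConj t (wd [.d]) ∨ IsConj t (wd [.a]) := by
  rw [wd_one, wd_one]
  exact (two_classes_ad (by rw [← pow_two, ← ht, pow_orderOf_eq_one]) (by rintro rfl; norm_num at ht)).imp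
    (fun h => (isConj_iff.2 h).symm) fun h => (isConj_iff.2 h).symm

theorem fix_a {t : He} (h : IsConj t (wd [.a])) : Nat.card {x // phi t x = x} = 154 := by
  obtain ⟨g, hg⟩ := isConj_iff.1 h
  have h1 : Nat.card {x // phi t x = x} = Nat.card {x // phi (wd [.a]) x = x} :=
    Nat.card_congr ((phi g).subtypeEquiv fun x => by
      rw [← hg, ← Equiv.Perm.mul_apply, ← map_mul, inv_mul_cancel_right, map_mul, Equiv.Perm.mul_apply,
        (phi g).apply_eq_iff_eq])
  rw [h1, ← (by decide +kernel : cnt 2058 (fun y => Nat.beq (act [.a] y) y) = 154), ← card_filter,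
    ← Nat.card_eq_finsetCard]
  refine Nat.card_congr ⟨fun x => ⟨x.1, ?_⟩, fun y => ⟨⟨y.1, Finset.mem_range.1 (Finset.mem_filter.1 y.2).1⟩, ?_⟩,
    fun _ => rfl, fun _ => rfl⟩
  · rw [Finset.mem_filter, Finset.mem_range, act_eq, x.2]
    exact ⟨x.1.2, Nat.beq_refl _⟩
  · exact Fin.ext ((act_eq _ _).symm.trans (Nat.eq_of_beq_eq_true (Finset.mem_filter.1 y.2).2))

theorem noOff2 : NoOff 2 He := by
  have := finite_He
  refine noOff_two S2075.result.dvd S2049.result (by rw [card_he]; norm_num) (fun t ht => (classes ht).elim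
    (fun h => (eb_d.conj h).mono (by norm_num)) fun h => (eb_a.conj h).mono (by norm_num)) fun E hE j h0 hj => ?_
  by_cases h : ∃ t ∈ E, IsConj t (wd [.d])
  · obtain ⟨t, h1, h2⟩ := h
    have h3 := le_of_card hj (e := 10) (by rw [card_he]; norm_num)
    have h4 : j ≠ 10 := by
      rintro rfl
      obtain ⟨s, h4, h5⟩ := exists_conj (s := wd [.a, .b]) (e := 2) hj (by rw [card_he]; norm_num)
        (pw_one (by decide +kernel))
      obtain ⟨g, h6⟩ := isConj_iff.1 h5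
      refine ne_one (x := pw [.a, .b] 2) 5 (by decide +kernel) ?_
      rw [wd_pw, ← h6, conj_pow, hE.2 s h4, mul_one, mul_inv_cancel]
    exact ⟨t, h1, (eb_d.conj h2).mono (by omega)⟩
  have h1 : ∀ t ∈ E, t ≠ 1 → IsConj t (wd [.a]) := fun t ht h1 =>
    (classes (orderOf_eq_prime (hE.2 t ht) h1)).resolve_left fun e => h ⟨t, ht, e⟩
  have h2 := card_dvd_of_fix (phi.comp E.subtype) fun g hg => fix_a (h1 g g.2 fun e => hg (Subtype.ext e))
  rw [hj, Nat.card_eq_fintype_card, Fintype.card_fin, show 2058 + (2 ^ j - 1) * 154 = 1904 + 2 ^ j * 154 by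
    have := Nat.one_le_two_pow (n := j); omega, Nat.dvd_add_left (dvd_mul_right _ _)] at h2
  have h3 : j ≤ 4 := not_lt.1 fun e => absurd ((pow_dvd_pow 2 e).trans h2) (by norm_num)
  obtain ⟨t, h4, h5⟩ := exists_elt h0 hj
  exact ⟨t, h4, (eb_a.conj (h1 t h4 (by rintro rfl; norm_num at h5))).mono (by omega)⟩

theorem row (p : ℕ) [hp : Fact p.Prime] : Row p He := by
  have := finite_He
  by_cases h2 : p = 2
  · subst h2
    exact noOff2.row
  have ho : ¬ p ∣ Nat.card (Out He) := fun e => h2 ((Nat.prime_dvd_prime_iff_eq hp.out Nat.prime_two).1 (S2075.result ▸ e))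
  by_cases h3 : p = 3
  · subst h3
    refine row_odd ho S2049.result fun E hE j h0 hj => ?_
    obtain ⟨rfl, -⟩ := heis_mem rel3 (by rw [card_he]; norm_num) hE h0.le hj
    exact absurd h0 (lt_irrefl 2)
  by_cases h5 : p = 5
  · subst h5
    refine row_odd ho S2049.result fun E _ j h0 hj => ?_
    obtain rfl : j = 2 := le_antisymm (le_of_card hj (by rw [card_he]; norm_num)) h0
    obtain ⟨t, h1, h4⟩ := exists_conj (s := wd [.a, .c, .d]) (e := 1) hj (by rw [card_he]; norm_num)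
      (pw_one (by decide +kernel))
    exact ⟨t, h1, ((eb17 (by norm_num) (by decide) _ [.b, .c, .f] (by decide +kernel) (by decide +kernel)
      (by decide +kernel)).conj h4).mono (by norm_num)⟩
  by_cases h7 : p = 7
  · subst h7
    refine row_odd ho S2049.result fun E hE j h0 hj => ?_
    obtain ⟨rfl, t, h1, h4⟩ := heis_mem rel7 (by rw [card_he]; norm_num) hE h0 hj
    exact ⟨t, h1, ((eb17 (by norm_num) (by decide) _ [.f, .g] (by decide +kernel) (by decide +kernel)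
      (by decide +kernel)).conj h4).mono (by norm_num)⟩
  refine row_sq ho S2049.result fun h1 => ?_
  rw [card_he, show 4030387200 = 2 ^ 10 * 3 ^ 3 * 5 ^ 2 * 7 ^ 3 * 17 by norm_num] at h1
  have h4 : ∀ {q : ℕ}, q.Prime → p ≠ q → ∀ n, Nat.Coprime (p ^ 2) (q ^ n) := fun hq h n =>
    ((Nat.coprime_primes hp.out hq).2 h).pow _ _
  have h6 := ((((h4 Nat.prime_two h2 10).mul_right (h4 Nat.prime_three h3 3)).mul_right
    (h4 (by norm_num) h5 2)).mul_right (h4 (by norm_num) h7 3)).dvd_of_dvd_mul_left h1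
  exact hp.out.one_lt.ne' (Nat.isUnit_iff.1 ((Nat.Prime.prime (by norm_num : Nat.Prime 17)).squarefree p
    (by rwa [← pow_two])))

end Cfsg.Agent.TwoF.SpD.He
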